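import Groth.Agent.H54.Chain.Ring
import Groth.Agent.H54.CMAffine
import Groth.Agent.H34.EtaleAt
import Mathlib.FieldTheory.IsAlgClosed.Basic

/-!
# Vectors of functions isolated at a point give quasi-finite flat maps to affine space
-/

set_option autoImplicit false

universe u

open CategoryTheory CategoryTheory.Limits AlgebraicGeometry

namespace Groth.Agent.H54.Chain

variable {R B : CommRingCat.{u}} (φ : R ⟶ B) {ι : Type u}

/-- The map to affine space given by a vector of functions. -/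
noncomputable def W (a : ι → B) : Spec B ⟶ 𝔸(ι; Spec R) :=
  AffineSpace.homOfVector (Spec.map φ) fun i => (Scheme.ΓSpecIso B).inv (a i)

theorem W_over (a : ι → B) : W φ a ≫ (𝔸(ι; Spec R) ↘ Spec R) = Spec.map φ :=
  AffineSpace.homOfVector_over _ _

/-- The function `Xᵢ - cᵢ`. -/
noncomputable def shifted (c : ι → R) (i : ι) : Γ(𝔸(ι; Spec R), ⊤) :=
  AffineSpace.coord (Spec R) i - (𝔸(ι; Spec R) ↘ Spec R).appTop ((Scheme.ΓSpecIso R).inv (c i))

theorem appTop_shifted {T : Scheme.{u}} (e : T ⟶ Spec R) (g : T ⟶ 𝔸(ι; Spec R))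
    (he : g ≫ (𝔸(ι; Spec R) ↘ Spec R) = e) (c : ι → R) (i : ι) :
    g.appTop (shifted c i) =
      g.appTop (AffineSpace.coord (Spec R) i) - e.appTop ((Scheme.ΓSpecIso R).inv (c i)) := by
  subst he
  simp only [shifted, map_sub]
  rfl

theorem SpecMap_appTop {C : CommRingCat.{u}} (ψ : R ⟶ C) (r : R) :
    (Spec.map ψ).appTop ((Scheme.ΓSpecIso R).inv r) = (Scheme.ΓSpecIso C).inv (ψ r) := by
  rw [← CommRingCat.comp_apply, ← CommRingCat.comp_apply, Scheme.ΓSpecIso_inv_naturality]

theorem mem_basicOpen_inv {C : CommRingCat.{u}} (f : C) (Q : Spec C) :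
    Q ∈ (Spec C).basicOpen ((Scheme.ΓSpecIso C).inv f) ↔ f ∉ Q.asIdeal := by
  rw [basicOpen_eq_of_affine]
  rfl

theorem mem_shifted_iff (a : ι → B) (c : ι → R) (i : ι) (Q : Spec B) :
    W φ a Q ∈ (𝔸(ι; Spec R)).basicOpen (shifted c i) ↔ a i - φ (c i) ∉ Q.asIdeal := by
  show Q ∈ (W φ a) ⁻¹ᵁ (𝔸(ι; Spec R)).basicOpen (shifted c i) ↔ _
  rw [Scheme.preimage_basicOpen_top, appTop_shifted (Spec.map φ) _ (W_over φ a), SpecMap_appTop, W,
    AffineSpace.homOfVector_appTop_coord, ← map_sub]
  exact mem_basicOpen_inv _ _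

theorem mem_poly_iff (c : ι → R) (i : ι) (q : Spec (CommRingCat.of (MvPolynomial ι R))) :
    (AffineSpace.SpecIso ι R).inv q ∈ (𝔸(ι; Spec R)).basicOpen (shifted c i) ↔
      (MvPolynomial.X i - MvPolynomial.C (c i) : MvPolynomial ι R) ∉ q.asIdeal := by
  show q ∈ (AffineSpace.SpecIso ι R).inv ⁻¹ᵁ (𝔸(ι; Spec R)).basicOpen (shifted c i) ↔ _
  have h : (AffineSpace.SpecIso ι R).inv.appTop (shifted c i) = (Scheme.ΓSpecIso _).inv
      (MvPolynomial.X i - MvPolynomial.C (c i) : MvPolynomial ι R) :=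
    (appTop_shifted _ _ (AffineSpace.SpecIso_inv_over R) c i).trans
      ((congrArg₂ (· - ·) (AffineSpace.SpecIso_inv_appTop_coord R i)
        (SpecMap_appTop (C := CommRingCat.of (MvPolynomial ι R)) (CommRingCat.ofHom MvPolynomial.C) (c i))).trans
          (map_sub _ _ _).symm)
  rw [Scheme.preimage_basicOpen_top, h]
  exact mem_basicOpen_inv _ _

/-- Over a field there is only one point where all `Xᵢ - cᵢ` vanish. -/
theorem eq_of_vanish (hR : IsField R) (c : ι → R) (y y' : ↑(𝔸(ι; Spec R)))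
    (hy : ∀ i, y ∉ (𝔸(ι; Spec R)).basicOpen (shifted c i))
    (hy' : ∀ i, y' ∉ (𝔸(ι; Spec R)).basicOpen (shifted c i)) : y = y' := by
  obtain ⟨q, rfl⟩ := (AffineSpace.SpecIso ι R).inv.homeomorph.surjective y
  obtain ⟨q', rfl⟩ := (AffineSpace.SpecIso ι R).inv.homeomorph.surjective y'
  have key : ∀ p : Spec (CommRingCat.of (MvPolynomial ι R)),
      (∀ i, (MvPolynomial.X i - MvPolynomial.C (c i) : MvPolynomial ι R) ∈ p.asIdeal) →
      ∀ f : MvPolynomial ι R, f ∈ p.asIdeal ↔ MvPolynomial.eval c f = 0 := by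
    intro p hp f
    have h : f - MvPolynomial.C (MvPolynomial.eval c f) ∈ p.asIdeal := by
      induction f using MvPolynomial.induction_on with
      | C r => simp
      | add f g hf hg =>
        rw [map_add, map_add, add_sub_add_comm]
        exact p.asIdeal.add_mem hf hg
      | mul_X f j hf =>
        rw [show f * MvPolynomial.X j - MvPolynomial.C (MvPolynomial.eval c (f * MvPolynomial.X j)) =
            (f - MvPolynomial.C (MvPolynomial.eval c f)) * MvPolynomial.X j +
              MvPolynomial.C (MvPolynomial.eval c f) * (MvPolynomial.X j - MvPolynomial.C (c j)) by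
          simp only [map_mul, MvPolynomial.eval_X]; ring]
        exact p.asIdeal.add_mem (p.asIdeal.mul_mem_right _ hf) (p.asIdeal.mul_mem_left _ (hp j))
    refine ⟨fun hf => ?_, fun he => by simpa [he] using h⟩
    by_contra he
    obtain ⟨e', he'⟩ := hR.mul_inv_cancel he
    have hC := p.asIdeal.mul_mem_right (MvPolynomial.C e') (by simpa using p.asIdeal.sub_mem hf h :
      MvPolynomial.C (MvPolynomial.eval c f) ∈ p.asIdeal)
    rw [← map_mul, he', map_one] at hC
    exact p.isPrime.ne_top ((Ideal.eq_top_iff_one _).2 hC)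
  have h1 := key q fun i => not_not.1 ((mem_poly_iff c i q).not.1 (hy i))
  have h2 := key q' fun i => not_not.1 ((mem_poly_iff c i q').not.1 (hy' i))
  have : q = q' := PrimeSpectrum.ext (Ideal.ext fun f => (h1 f).trans (h2 f).symm)
  rw [this]

variable (c : ι → R) (P : Spec B)

/-- Quasi-finiteness at a closed point forces the vector to be isolated. -/
theorem isIsolated_of_quasiFiniteAt (hR : IsField R) (a : ι → B) [LocallyOfFiniteType (W φ a)]
    (hP : ∀ i, a i - φ (c i) ∈ P.asIdeal) (h : (W φ a).QuasiFiniteAt P) :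
    IsIsolated P.asIdeal (fun i => a i - φ (c i)) := by
  refine ⟨hP, fun Q hQ hle hall => ?_⟩
  let Q' : Spec B := ⟨Q, hQ⟩
  have hW : W φ a Q' = W φ a P := eq_of_vanish hR c _ _
    (fun i => fun hm => (mem_shifted_iff φ a c i Q').1 hm (hall i))
    (fun i => fun hm => (mem_shifted_iff φ a c i P).1 hm (hP i))
  obtain ⟨z, hz⟩ : Q' ∈ Set.range ((W φ a).fiberι (W φ a P)) := by
    rw [(W φ a).range_fiberι]
    exact hW
  have hs : z ⤳ (W φ a).asFiber P := by
    refine ((W φ a).fiberι _).isEmbedding.isInducing.specializes_iff.1 ?_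
    rw [(W φ a).fiberι_asFiber P]
    erw [hz]
    exact (PrimeSpectrum.le_iff_specializes Q' P).1 hle
  have := ((H46.QFin.quasiFiniteAt_iff (W φ a) P).1 h).2 z hs
  have h' : Q' = P := by
    rw [← hz, this]
    exact (W φ a).fiberι_asFiber P
  exact congrArg PrimeSpectrum.asIdeal h'

/-- An isolated vector gives a map which is quasi-finite at the point. -/
theorem quasiFiniteAt_of_isIsolated (hP : IsClosed ({P} : Set (Spec B))) (a : ι → B)
    [LocallyOfFiniteType (W φ a)] (h : IsIsolated P.asIdeal (fun i => a i - φ (c i))) :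
    (W φ a).QuasiFiniteAt P := by
  let g := W φ a
  refine (H46.QFin.quasiFiniteAt_iff g P).2 ⟨?_, fun z hz => ?_⟩
  · have := hP.preimage (g.fiberι (g P)).continuous
    convert this using 1
    ext z
    exact ⟨fun hz => by rw [Set.mem_singleton_iff.1 hz]; exact g.fiberι_asFiber P,
      fun hz => H46.QFin.eq_asFiber P z hz⟩
  · refine H46.QFin.eq_asFiber P z ?_
    have hzQ : g (g.fiberι _ z) = g P := H46.QFin.asFiber_mem (f := g) z
    have hs : g.fiberι _ z ⤳ P := by
      have h' := hz.map (g.fiberι (g P)).continuous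
      rwa [g.fiberι_asFiber] at h'
    refine PrimeSpectrum.ext (h.2 _ (g.fiberι _ z).isPrime ((PrimeSpectrum.le_iff_specializes _ P).2 hs)
      fun i => ?_)
    by_contra hni
    have h1 := (mem_shifted_iff φ a c i _).2 hni
    rw [show W φ a (g.fiberι _ z) = W φ a P from hzQ] at h1
    exact (mem_shifted_iff φ a c i P).1 h1 (h.1 i)

theorem isIso_reindex {n m : Type u} (e : n ≃ m) (S : Scheme.{u}) : IsIso (AffineSpace.reindex e S) :=
  ⟨AffineSpace.reindex e.symm S,
    by rw [← AffineSpace.reindex_id]; ext1 <;> simp,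
    by rw [← AffineSpace.reindex_id]; ext1 <;> simp⟩

/-- Flatness at a quasi-finite point, given one quasi-finite flat map to the same affine space. -/
theorem flat_stalkMap_W [Finite ι] [IsLocallyNoetherian (Spec R)] [LocallyOfFiniteType (Spec.map φ)]
    (a₀ a : ι → B) (h₀ : (W φ a₀).QuasiFiniteAt P) (hfl₀ : ((W φ a₀).stalkMap P).hom.Flat)
    (h : (W φ a).QuasiFiniteAt P) : ((W φ a).stalkMap P).hom.Flat := by
  obtain ⟨n, ⟨e⟩⟩ := Finite.exists_equiv_fin ι
  let e' : ι ≃ ULift.{u} (Fin n) := e.trans Equiv.ulift.symm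
  let r : 𝔸(ι; Spec R) ⟶ 𝔸(ULift.{u} (Fin n); Spec R) := AffineSpace.reindex e'.symm (Spec R)
  haveI : IsIso r := isIso_reindex e'.symm _
  have hover : ∀ b : ι → B, (W φ b ≫ r) ≫ (𝔸(ULift.{u} (Fin n); Spec R) ↘ Spec R) = Spec.map φ := fun b => by
    rw [Category.assoc, AffineSpace.reindex_over, W_over]
  haveI : LocallyOfFinitePresentation (Spec.map φ) := H34.EtaleAt.locallyOfFinitePresentation _
  haveI hl : ∀ b : ι → B, LocallyOfFiniteType (W φ b ≫ r) := fun b => by
    have : LocallyOfFiniteType ((W φ b ≫ r) ≫ (𝔸(ULift.{u} (Fin n); Spec R) ↘ Spec R)) := by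
      rw [hover]; infer_instance
    exact locallyOfFiniteType_of_comp _ (𝔸(ULift.{u} (Fin n); Spec R) ↘ Spec R)
  haveI := hl a₀
  haveI := hl a
  have hcm := CMAffine.isCMAt_of_map (W φ a₀ ≫ r) P (Scheme.Hom.quasiFiniteAt_comp_iff.2 h₀) (by
    rw [Scheme.Hom.stalkMap_comp]
    exact (CMAffine.flat_stalkMap_openImmersion r _).comp hfl₀)
  haveI : LocallyOfFinitePresentation ((W φ a ≫ r) ≫ (𝔸(ULift.{u} (Fin n); Spec R) ↘ Spec R)) := by
    rw [hover]; infer_instance
  have key := CMAffine.flat_of_isCMAt (W φ a ≫ r) P (Scheme.Hom.quasiFiniteAt_comp_iff.2 h)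
    (by simp only [hover]; have := hcm.1; simp only [hover] at this; exact this)
    (by simp only [hover]; have := hcm.2; simp only [hover] at this; exact this)
  have e2 : W φ a = (W φ a ≫ r) ≫ inv r := by rw [Category.assoc, IsIso.hom_inv_id, Category.comp_id]
  rw [e2, Scheme.Hom.stalkMap_comp]
  exact (CMAffine.flat_stalkMap_openImmersion (inv r) _).comp key

end Groth.Agent.H54.Chain
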