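import Groth.Agent.H54.Chain.Geom

/-!
# Chains of quasi-finite flat maps to affine space changing one coordinate at a time
-/

set_option autoImplicit false

universe u

open CategoryTheory CategoryTheory.Limits AlgebraicGeometry

namespace Groth.Agent.H54.Chain

theorem exists_const {k : Type u} [Field k] [IsAlgClosed k] {B : Type u} [CommRing B] [Algebra k B]
    [Algebra.FiniteType k B] (P : Ideal B) [P.IsMaximal] (b : B) : ∃ c : k, b - algebraMap k B c ∈ P := by
  letI : Field (B ⧸ P) := Ideal.Quotient.field P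
  haveI : Algebra.FiniteType k (B ⧸ P) :=
    .of_surjective (Ideal.Quotient.mkₐ k P) (Ideal.Quotient.mkₐ_surjective k P)
  haveI : Module.Finite k (B ⧸ P) := finite_of_finite_type_of_isJacobsonRing k (B ⧸ P)
  obtain ⟨c, hc⟩ := (IsAlgClosed.algebraMap_bijective_of_isIntegral (k := k) (K := B ⧸ P)).2
    (Ideal.Quotient.mk P b)
  exact ⟨c, (Ideal.Quotient.mk_eq_mk_iff_sub_mem _ _).1 hc.symm⟩

/-- Changing a vector into another one, coordinate by coordinate. -/
theorem reflTransGen_piecewise {α : Type*} {ι : Type*} [Fintype ι] [DecidableEq ι] (a b : ι → α)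
    (r : (ι → α) → (ι → α) → Prop)
    (hr : ∀ (s : Finset ι) (i : ι), r (s.piecewise b a) ((insert i s).piecewise b a)) :
    Relation.ReflTransGen r a b := by
  suffices ∀ s : Finset ι, Relation.ReflTransGen r a (s.piecewise b a) by
    simpa using this Finset.univ
  intro s
  induction s using Finset.induction with
  | empty => rw [Finset.piecewise_empty]
  | insert i s _ ih => exact ih.tail (hr s i)

theorem exists_chain {k : Type u} [Field k] [IsAlgClosed k] (X : Scheme.{u})
    (p : X ⟶ Spec (CommRingCat.of k)) [LocallyOfFiniteType p] (ι : Type u) [Finite ι]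
    (u v : X ⟶ AffineSpace ι (Spec (CommRingCat.of k)))
    (hu : u ≫ (AffineSpace ι (Spec (CommRingCat.of k)) ↘ Spec (CommRingCat.of k)) = p)
    (hv : v ≫ (AffineSpace ι (Spec (CommRingCat.of k)) ↘ Spec (CommRingCat.of k)) = p)
    [LocallyQuasiFinite u] [Flat u] [LocallyQuasiFinite v] [Flat v] (x : X) (hx : IsClosed ({x} : Set X)) :
    ∃ (U : X.Opens), x ∈ U ∧ ∃ (m : ℕ) (w : Fin (m + 1) → ((U : Scheme.{u}) ⟶ AffineSpace ι (Spec (CommRingCat.of k)))),
      w 0 = U.ι ≫ u ∧ w (Fin.last m) = U.ι ≫ v ∧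
      (∀ j : Fin (m + 1), LocallyQuasiFinite (w j) ∧ Flat (w j) ∧
        w j ≫ (AffineSpace ι (Spec (CommRingCat.of k)) ↘ Spec (CommRingCat.of k)) = U.ι ≫ p) ∧
      (Nonempty ι → ∀ j : Fin m, ∃ i : ι, ∀ i' : ι, i' ≠ i →
        (w j.castSucc).appTop (AffineSpace.coord (Spec (CommRingCat.of k)) i') =
          (w j.succ).appTop (AffineSpace.coord (Spec (CommRingCat.of k)) i')) := by
  classical
  let _ := Fintype.ofFinite ι
  let R : CommRingCat.{u} := CommRingCat.of k
  have hR : IsField R := Field.toIsField k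
  haveI : IsLocallyNoetherian (Spec R) := inferInstanceAs (IsLocallyNoetherian (Spec (CommRingCat.of k)))
  obtain ⟨U₀, hU₀, hxU, -⟩ := exists_isAffineOpen_mem_and_subset (X := X) (x := x) (U := ⊤) trivial
  let B : CommRingCat.{u} := Γ(X, U₀)
  let w₀ : Spec B ⟶ X := hU₀.fromSpec
  let P : Spec B := hU₀.primeIdealOf ⟨x, hxU⟩
  have hPx : w₀ P = x := hU₀.fromSpec_primeIdealOf _
  have hPc : IsClosed ({P} : Set (Spec B)) := by
    have h := hx.preimage w₀.continuous
    convert h using 1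
    ext q
    exact ⟨fun hq => by rw [Set.mem_singleton_iff.1 hq]; exact hPx,
      fun hq => w₀.isOpenEmbedding.injective (Eq.trans hq hPx.symm)⟩
  haveI : P.asIdeal.IsMaximal := (PrimeSpectrum.isClosed_singleton_iff_isMaximal P).1 hPc
  let φ : R ⟶ B := Spec.preimage (w₀ ≫ p)
  have hφ : Spec.map φ = w₀ ≫ p := Spec.map_preimage _
  haveI hft : LocallyOfFiniteType (Spec.map φ) := by rw [hφ]; infer_instance
  letI : Algebra k B := φ.hom.toAlgebra
  haveI : Algebra.FiniteType k B := (HasRingHomProperty.Spec_iff (P := @LocallyOfFiniteType)).1 hft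
  haveI : IsNoetherianRing B := Algebra.FiniteType.isNoetherianRing k B
  haveI : ∀ a : ι → B, LocallyOfFiniteType (W φ a) := fun a => by
    have : LocallyOfFiniteType (W φ a ≫ (𝔸(ι; Spec R) ↘ Spec R)) := by rw [W_over]; infer_instance
    exact locallyOfFiniteType_of_comp _ (𝔸(ι; Spec R) ↘ Spec R)
  let vec : (X ⟶ 𝔸(ι; Spec R)) → ι → B := fun g i =>
    (Scheme.ΓSpecIso B).hom ((w₀ ≫ g).appTop (AffineSpace.coord (Spec R) i))
  have hvec : ∀ g, g ≫ (𝔸(ι; Spec R) ↘ Spec R) = p → W φ (vec g) = w₀ ≫ g := fun g hg =>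
    AffineSpace.hom_ext (by rw [W_over, hφ, Category.assoc, hg]) fun i =>
      (AffineSpace.homOfVector_appTop_coord _ _ i).trans
        ((Scheme.ΓSpecIso B).commRingCatIsoToRingEquiv.symm_apply_apply _)
  choose cst hcst using fun b : B => exists_const (k := k) P.asIdeal b
  let Good : (ι → B) → Prop := fun a => ∃ c : ι → R, IsIsolated P.asIdeal (fun i => a i - φ (c i))
  have hgood : ∀ g, g ≫ (𝔸(ι; Spec R) ↘ Spec R) = p → ∀ [LocallyQuasiFinite g],
      IsIsolated P.asIdeal (fun i => vec g i - φ (cst (vec g i))) := fun g hg _ =>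
    isIsolated_of_quasiFiniteAt φ (fun i => cst (vec g i)) P hR (vec g) (fun i => hcst _)
      (by rw [hvec g hg]; exact Scheme.Hom.quasiFiniteAt _ P)
  let cu : ι → R := fun i => cst (vec u i)
  let cv : ι → R := fun i => cst (vec v i)
  let au : ι → B := fun i => vec u i - φ (cu i)
  let av : ι → B := fun i => vec v i - φ (cv i)
  let sh : (ι → R) → (ι → B) → (ι → B) := fun c a i => a i + φ (c i)
  have hsh : ∀ c a, IsIsolated P.asIdeal a → Good (sh c a) := fun c a ha => ⟨c, by
    simpa [sh] using ha⟩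
  let Rel : (ι → B) → (ι → B) → Prop := fun a b => Good a ∧ Good b ∧
    (Nonempty ι → ∃ i, ∀ j, j ≠ i → a j = b j)
  have h1 : Relation.ReflTransGen Rel (sh cu au) (sh cu av) :=
    (connected _ au av (hgood u hu) (hgood v hv) rfl).lift (sh cu) fun a b ⟨ha, hb, i, hi⟩ =>
      ⟨hsh _ _ ha, hsh _ _ hb, fun _ => ⟨i, fun j hj => by simp only [sh, hi j hj]⟩⟩
  have h2 : Relation.ReflTransGen Rel (sh cu av) (sh cv av) :=
    (reflTransGen_piecewise cu cv (fun c d => Rel (sh c av) (sh d av)) fun s i =>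
      ⟨hsh _ _ (hgood v hv), hsh _ _ (hgood v hv), fun _ => ⟨i, fun j hj => by
        simp only [sh, Finset.piecewise, Finset.mem_insert, hj, false_or]⟩⟩).lift (fun c => sh c av) fun _ _ h => h
  obtain ⟨m, a, ha0, ham, hstep⟩ := exists_seq (h1.trans h2)
  have hgall : ∀ j, Good (a j) := fun j => by
    induction j using Fin.cases with
    | zero => rw [ha0]; exact hsh _ _ (hgood u hu)
    | succ j => exact (hstep j).2.1
  have hu₀ : sh cu au = vec u := funext fun i => sub_add_cancel _ _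
  have hv₀ : sh cv av = vec v := funext fun i => sub_add_cancel _ _
  haveI : IsLocallyNoetherian 𝔸(ι; Spec R) :=
    LocallyOfFiniteType.isLocallyNoetherian (𝔸(ι; Spec R) ↘ Spec R)
  haveI : ∀ b : ι → B, LocallyOfFinitePresentation (W φ b) := fun b =>
    H34.EtaleAt.locallyOfFinitePresentation _
  have hqf : ∀ j, (W φ (a j)).QuasiFiniteAt P := fun j => by
    obtain ⟨c, hc⟩ := hgall j
    exact quasiFiniteAt_of_isIsolated φ c P hPc _ hc
  have hfl : ∀ j, ((W φ (a j)).stalkMap P).hom.Flat := fun j => by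
    refine flat_stalkMap_W φ P (vec u) (a j) ?_ ?_ (hqf j)
    · rw [hvec u hu]; exact Scheme.Hom.quasiFiniteAt _ P
    · rw [hvec u hu]; exact Flat.stalkMap _ P
  let O : (Spec B).Opens :=
    ⟨⋂ j, ((W φ (a j)).quasiFiniteLocus : Set (Spec B)) ∩ {y | ((W φ (a j)).stalkMap y).hom.Flat},
      isOpen_iInter_of_finite fun j =>
        (W φ (a j)).quasiFiniteLocus.2.inter (H19.FlatLocus.Scheme.isOpen_flat_stalkMap (W φ (a j)))⟩
  have hPO : P ∈ O := Set.mem_iInter.2 fun j => ⟨hqf j, hfl j⟩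
  let j₀ : (O : Scheme.{u}) ⟶ X := O.ι ≫ w₀
  let ρ : (j₀.opensRange : Scheme.{u}) ⟶ Spec B := j₀.isoOpensRange.inv ≫ O.ι
  have hρ : ρ ≫ w₀ = j₀.opensRange.ι := by
    rw [Category.assoc]
    exact j₀.isoOpensRange_inv_comp
  refine ⟨j₀.opensRange, ⟨⟨P, hPO⟩, hPx⟩, m, fun j => ρ ≫ W φ (a j), ?_, ?_, fun j => ⟨?_, ?_, ?_⟩,
    fun hne j => ?_⟩
  · dsimp only
    rw [ha0, hu₀, hvec u hu, ← Category.assoc, hρ]
  · dsimp only
    rw [ham, hv₀, hvec v hv, ← Category.assoc, hρ]
  · haveI : LocallyQuasiFinite (O.ι ≫ W φ (a j)) := by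
      rw [← Scheme.Hom.quasiFiniteLocus_eq_top_iff, Scheme.Hom.quasiFiniteLocus_comp, eq_top_iff]
      exact fun y _ => (Set.mem_iInter.1 y.2 j).1
    dsimp only [ρ]
    rw [Category.assoc]
    infer_instance
  · haveI : Flat (O.ι ≫ W φ (a j)) := Flat.of_stalkMap _ fun y => by
      rw [Scheme.Hom.stalkMap_comp]
      exact (Set.mem_iInter.1 y.2 j).2.comp (CMAffine.flat_stalkMap_openImmersion O.ι y)
    dsimp only [ρ]
    rw [Category.assoc]
    infer_instance
  · dsimp only
    rw [Category.assoc, W_over, hφ, ← Category.assoc, hρ]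
  · obtain ⟨i, hi⟩ := (hstep j).2.2 hne
    refine ⟨i, fun i' hi' => ?_⟩
    have hW : ∀ b : ι → B, (ρ ≫ W φ b).appTop (AffineSpace.coord (Spec R) i') =
        ρ.appTop ((Scheme.ΓSpecIso B).inv (b i')) := fun b =>
      congrArg ρ.appTop (AffineSpace.homOfVector_appTop_coord _ _ i')
    exact (hW _).trans ((congrArg (fun e => ρ.appTop ((Scheme.ΓSpecIso B).inv e)) (hi i' hi')).trans (hW _).symm)

end Groth.Agent.H54.Chain
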