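import Mathlib.RingTheory.Ideal.KrullsHeightTheorem
import Mathlib.Logic.Relation
import Mathlib.Data.Fintype.Card

/-!
# Connecting systems of parameters by changing one element at a time
-/

set_option autoImplicit false

universe u

namespace Groth.Agent.H54.Chain

variable {B : Type u} [CommRing B] {ι : Type*}

/-- The members lie in `P`, and no prime strictly below `P` contains all of them. -/
def IsIsolated (P : Ideal B) (v : ι → B) : Prop :=
  (∀ i, v i ∈ P) ∧ ∀ Q : Ideal B, Q.IsPrime → Q ≤ P → (∀ i, v i ∈ Q) → Q = P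

variable [IsNoetherianRing B]

/-- No chain `Q < Q' < P` of primes when `P` is isolated over `Q` by one more element. -/
theorem no_chain {P Q Q' : Ideal B} [P.IsPrime] [Q.IsPrime] [Q'.IsPrime] (h₁ : Q < Q') (h₂ : Q' < P) (a : B)
    (ha : a ∈ P) (hiso : ∀ R : Ideal B, R.IsPrime → Q ≤ R → R ≤ P → a ∈ R → R = P) : False := by
  let π := Ideal.Quotient.mk Q
  have hπ : Function.Surjective π := Ideal.Quotient.mk_surjective
  have hc : ∀ I : Ideal B, Q ≤ I → (I.map π).comap π = I := fun I hI => by
    rw [Ideal.comap_map_of_surjective π hπ, ← RingHom.ker_eq_comap_bot, Ideal.mk_ker, sup_eq_left.2 hI]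
  have hQP : Q ≤ P := h₁.le.trans h₂.le
  haveI : (P.map π).IsPrime := Ideal.map_isPrime_of_surjective hπ (by rw [Ideal.mk_ker]; exact hQP)
  haveI : (Q'.map π).IsPrime := Ideal.map_isPrime_of_surjective hπ (by rw [Ideal.mk_ker]; exact h₁.le)
  have hlt₁ : (⊥ : Ideal (B ⧸ Q)) < Q'.map π := bot_lt_iff_ne_bot.2 fun hh => by
    have h := hc Q' h₁.le
    rw [hh, ← RingHom.ker_eq_comap_bot, Ideal.mk_ker] at h
    exact h₁.ne h
  have hlt₂ : Q'.map π < P.map π := lt_of_le_of_ne (Ideal.map_mono h₂.le) fun hh =>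
    h₂.ne (by rw [← hc Q' h₁.le, ← hc P hQP, hh])
  have hmin : P.map π ∈ (Ideal.span ({π a} : Set (B ⧸ Q))).minimalPrimes := by
    refine ⟨⟨inferInstance, Ideal.span_le.2 (Set.singleton_subset_iff.2 (Ideal.mem_map_of_mem π ha))⟩,
      fun R hR hRle => ?_⟩
    haveI := hR.1
    have hR1 : Q ≤ R.comap π := fun q hq => by
      show π q ∈ R
      rw [show π q = 0 from Ideal.Quotient.eq_zero_iff_mem.2 hq]
      exact R.zero_mem
    have h := hiso _ (Ideal.IsPrime.comap π) hR1 ((Ideal.comap_mono hRle).trans (hc P hQP).le)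
      (hR.2 (Ideal.mem_span_singleton_self _))
    rw [← h, Ideal.map_comap_of_surjective π hπ]
  have hle : (P.map π).height ≤ 1 := by
    simpa using Ideal.height_le_card_of_mem_minimalPrimes_span (Set.finite_singleton (π a)) hmin
  haveI : (⊥ : Ideal (B ⧸ Q)).IsPrime := Ideal.isPrime_bot
  have h1 := Ideal.height_add_one_le_of_lt_of_isPrime hlt₁
  have h2 := (Ideal.height_add_one_le_of_lt_of_isPrime hlt₂).trans hle
  have h3 : (1 : ℕ∞) + 1 ≤ 1 := (add_le_add_left (le_add_self.trans h1) 1).trans h2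
  exact absurd h3 (by decide)

variable [Fintype ι] [DecidableEq ι]

/-- An element of `P` which completes two deficient systems. -/
theorem exists_update {P : Ideal B} [hP : P.IsPrime] (u v : ι → B) (hu : IsIsolated P u) (hv : IsIsolated P v)
    (i : ι) : ∃ z, IsIsolated P (Function.update u i z) ∧ IsIsolated P (Function.update v i z) := by
  classical
  let J : (ι → B) → Ideal B := fun w => Ideal.span (w '' {j | j ≠ i})
  let T : Finset (Ideal B) :=
    (((Ideal.finite_minimalPrimes_of_isNoetherianRing B (J u)).union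
      (Ideal.finite_minimalPrimes_of_isNoetherianRing B (J v))).toFinset).filter fun Q => ¬ P ≤ Q
  obtain ⟨z, hzP, hz⟩ : ∃ z ∈ P, ∀ Q ∈ T, z ∉ Q := by
    by_contra hcon
    push Not at hcon
    have hsub : (P : Set B) ⊆ ⋃ Q ∈ (↑T : Set (Ideal B)), (Q : Set B) := fun z hz => by
      obtain ⟨Q, hQ, hzQ⟩ := hcon z hz
      exact Set.mem_biUnion hQ hzQ
    obtain ⟨Q, hQ, hle⟩ := (Ideal.subset_union_prime ⊥ ⊥ fun Q hQ _ _ => by
      rcases Set.Finite.mem_toFinset _ |>.1 (Finset.mem_filter.1 hQ).1 with h | h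
      · exact h.1.1
      · exact h.1.1).1 hsub
    exact (Finset.mem_filter.1 hQ).2 hle
  have key : ∀ w : ι → B, IsIsolated P w → (∀ Q ∈ (J w).minimalPrimes, ¬ P ≤ Q → z ∉ Q) →
      IsIsolated P (Function.update w i z) := by
    intro w hw hz'
    refine ⟨fun j => ?_, fun Q' hQ' hle hall => ?_⟩
    · by_cases hj : j = i
      · subst hj; simpa using hzP
      · simpa [hj] using hw.1 j
    · have hJ : J w ≤ Q' := Ideal.span_le.2 fun _ ⟨j, hj, hje⟩ => by
        have := hall j
        rw [Function.update_of_ne hj] at this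
        exact hje ▸ this
      obtain ⟨Q, hQ, hQle⟩ := Ideal.exists_minimalPrimes_le hJ
      haveI := hQ.1.1
      haveI := hQ'
      by_cases hPQ : P ≤ Q
      · exact le_antisymm hle (hPQ.trans hQle)
      · by_contra hne
        have hzQ' : z ∈ Q' := by simpa using hall i
        refine no_chain (lt_of_le_of_ne hQle fun h => hz' Q hQ hPQ (h ▸ hzQ')) (lt_of_le_of_ne hle hne)
          (w i) (hw.1 i) fun R hR hQR hRP hiR => hw.2 R hR hRP fun j => ?_
        by_cases hj : j = i
        · exact hj ▸ hiR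
        · exact hQR (hQ.1.2 (Ideal.subset_span ⟨j, hj, rfl⟩))
  refine ⟨z, key u hu fun Q hQ hn => hz Q (Finset.mem_filter.2 ⟨?_, hn⟩),
    key v hv fun Q hQ hn => hz Q (Finset.mem_filter.2 ⟨?_, hn⟩)⟩
  · exact (Set.Finite.mem_toFinset _).2 (Or.inl hQ)
  · exact (Set.Finite.mem_toFinset _).2 (Or.inr hQ)

/-- One step of a chain: at most one coordinate changes. -/
def Step (P : Ideal B) (u v : ι → B) : Prop :=
  IsIsolated P u ∧ IsIsolated P v ∧ ∃ i, ∀ j, j ≠ i → u j = v j

/-- Isolated systems are connected by steps. -/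
theorem connected {P : Ideal B} [P.IsPrime] [DecidableEq B] : ∀ (k : ℕ) (u v : ι → B), IsIsolated P u →
    IsIsolated P v → (Finset.univ.filter fun i => u i ≠ v i).card = k →
      Relation.ReflTransGen (Step P) u v := by
  intro k
  induction k using Nat.strong_induction_on with
  | _ k ih =>
    intro u v hu hv hk
    rcases (Finset.univ.filter fun i => u i ≠ v i).eq_empty_or_nonempty with h | ⟨i, hi⟩
    · have : u = v := funext fun i => by
        by_contra hne
        exact Finset.notMem_empty i (h ▸ Finset.mem_filter.2 ⟨Finset.mem_univ i, hne⟩)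
      exact this ▸ .refl
    · obtain ⟨z, hzu, hzv⟩ := exists_update u v hu hv i
      have hlt : (Finset.univ.filter fun j => Function.update u i z j ≠ Function.update v i z j).card < k := by
        refine hk ▸ Finset.card_lt_card (Finset.ssubset_iff_of_subset (fun j hj => ?_) |>.2 ⟨i, hi, by simp⟩)
        rw [Finset.mem_filter] at hj ⊢
        refine ⟨hj.1, ?_⟩
        by_cases hji : j = i
        · exact absurd (by simp [hji]) hj.2
        · simpa [hji] using hj.2
      refine .head ⟨hu, hzu, i, fun j hj => by simp [hj]⟩ ((ih _ hlt _ _ hzu hzv rfl).tail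
        ⟨hzv, hv, i, fun j hj => by simp [hj]⟩)

/-- A chain as a finite sequence. -/
theorem exists_seq {α : Type*} {r : α → α → Prop} {a b : α} (h : Relation.ReflTransGen r a b) :
    ∃ (m : ℕ) (w : Fin (m + 1) → α), w 0 = a ∧ w (Fin.last m) = b ∧ ∀ j : Fin m, r (w j.castSucc) (w j.succ) := by
  induction h with
  | refl => exact ⟨0, fun _ => a, rfl, rfl, fun j => j.elim0⟩
  | @tail b c _ hbc ih =>
    obtain ⟨m, w, h0, hm, hw⟩ := ih
    refine ⟨m + 1, Fin.snoc w c, ?_, Fin.snoc_last .., fun j => ?_⟩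
    · rw [← Fin.castSucc_zero, Fin.snoc_castSucc]; exact h0
    · induction j using Fin.lastCases with
      | last => rw [Fin.succ_last, Fin.snoc_last, Fin.snoc_castSucc, hm]; exact hbc
      | cast j => rw [Fin.succ_castSucc, Fin.snoc_castSucc, Fin.snoc_castSucc]; exact hw j

end Groth.Agent.H54.Chain
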